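import Groth.Agent.PlaneCurve.SeriesNode.Main
import Groth.Agent.Smt.GlueLocal
import Groth.Agent.Ega4Algebra2.CMEquiv
import Groth.Agent.Calg4.RegularAscent
import Groth.Prelude.Def_CAlg

/-!
Depth facts used for the node criterion.
-/

set_option autoImplicit false
set_option linter.style.longLine false

universe u

open MvPowerSeries Groth.SGA7.PS Groth.Curves1.Node

namespace Groth.PlaneCurve.SeriesNode

theorem one_le_depth_of_regular {A : Type u} [CommRing A] [IsLocalRing A] {t : A}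
    (ht : t ∈ IsLocalRing.maximalIdeal A) (ht' : t ∈ nonZeroDivisors A) : 1 ≤ LocCoh.depth A A := by
  rw [LocCoh.depth, LocCoh.idealDepth, if_neg (by
    rw [smul_eq_mul, Ideal.mul_top]; exact (IsLocalRing.maximalIdeal.isMaximal A).ne_top)]
  refine le_iSup₂_of_le [t] ⟨(RingTheory.Sequence.isWeaklyRegular_singleton_iff A t).2 ?_, by simpa using ht⟩ (by simp)
  exact fun x y hxy => sub_eq_zero.1 (mem_nonZeroDivisors_iff_left.1 ht' _ (by
    rw [mul_sub]; exact sub_eq_zero.2 hxy))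

theorem exists_regular_of_one_le_depth {A : Type u} [CommRing A] [IsLocalRing A]
    (h : 1 ≤ LocCoh.depth A A) : ∃ t ∈ IsLocalRing.maximalIdeal A, t ∈ nonZeroDivisors A := by
  rw [LocCoh.depth, LocCoh.idealDepth, if_neg (by
    rw [smul_eq_mul, Ideal.mul_top]; exact (IsLocalRing.maximalIdeal.isMaximal A).ne_top),
    Order.one_le_iff_pos, lt_iSup_iff] at h
  obtain ⟨rs, hrs⟩ := h
  rw [lt_iSup_iff] at hrs
  obtain ⟨⟨hreg, hmem⟩, hlen⟩ := hrs
  obtain ⟨t, l, rfl⟩ : ∃ t l, rs = t :: l := by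
    cases rs with
    | nil => simp at hlen
    | cons t l => exact ⟨t, l, rfl⟩
  refine ⟨t, hmem t (by simp), mem_nonZeroDivisors_iff_left.2 fun x hx => ?_⟩
  exact ((RingTheory.Sequence.isWeaklyRegular_cons_iff A t l).1 hreg).1 (show t * x = t * 0 by rw [hx, mul_zero])

theorem quad_mem_sq {k : Type u} [Field k] (a b c : k) : quad a b c ∈ varIdeal (Fin 2) k ^ 2 := by
  rw [quad, mul_assoc (MvPowerSeries.C b)]
  refine add_mem (add_mem (Ideal.mul_mem_left _ _ (Ideal.pow_mem_pow (X_mem _) 2)) (Ideal.mul_mem_left _ _ ?_))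
    (Ideal.mul_mem_left _ _ (Ideal.pow_mem_pow (X_mem _) 2))
  rw [sq]
  exact Ideal.mul_mem_mul (X_mem _) (X_mem _)

theorem depth_quadric_le {k : Type u} [Field k] {a b c : k} (hD : 4 * a * c - b ^ 2 ≠ 0) :
    LocCoh.depth (Quadric a b c) (Quadric a b c) ≤ 1 := by
  have h1 := Groth.Calg4.depth_le_ringKrullDim (Quadric a b c)
  haveI := Groth.Calg6.isRegularLocalRing_mvPowerSeries k 2
  have hne : quad a b c ≠ 0 := by
    intro h0
    have key : ∀ i j, i + j = 2 → coeff (ee i j) (quad a b c) = 0 := fun i j _ => by rw [h0, map_zero]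
    have k1 := key 2 0 rfl
    have k2 := key 1 1 rfl
    have k3 := key 0 2 rfl
    simp [quad_eq, coeff_monomial, ee_inj] at k1 k2 k3
    exact hD (by rw [k1, k2, k3]; ring)
  have h2 := ringKrullDim_quotient_succ_le_of_nonZeroDivisor (r := quad a b c)
    (mem_nonZeroDivisors_of_ne_zero hne)
  rw [Groth.Calg6.ringKrullDim_mvPowerSeries k 2] at h2
  have h3 : ((LocCoh.depth (Quadric a b c) (Quadric a b c) : ℕ∞) : WithBot ℕ∞) + 1 ≤ ((2 : ℕ) : WithBot ℕ∞) :=
    le_trans (add_le_add_left h1 1) h2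
  revert h3
  generalize LocCoh.depth (Quadric a b c) (Quadric a b c) = d
  intro h3
  have h4 : d + 1 ≤ ((2 : ℕ) : ℕ∞) := by
    rwa [show ((2 : ℕ) : WithBot ℕ∞) = (((2 : ℕ) : ℕ∞) : WithBot ℕ∞) from rfl, ← WithBot.coe_one,
      ← WithBot.coe_add, WithBot.coe_le_coe] at h3
  induction d using ENat.recTopCoe with
  | top => simp at h4
  | coe d =>
    have h5 : d + 1 ≤ 2 := by exact_mod_cast h4
    exact_mod_cast (by omega : d ≤ 1)

end Groth.PlaneCurve.SeriesNode
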