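import Mathlib
import Groth.Agent.Calg6.PowerSeries
import Groth.Agent.SGA7.PowerSeries
import Groth.Agent.ArtfunDeform.PowerSeries

/-!
Jacobian matrices of power series: chain rule, ideals of minors, invariance under coordinate changes.
-/

set_option autoImplicit false
set_option linter.style.longLine false

universe u v w

open MvPowerSeries Groth.SGA7.PS

namespace Groth.PlaneCurve.SeriesNode

/-- A surjective endomorphism of a Noetherian ring is injective. -/
theorem injective_of_surjective_endo {R : Type u} [CommRing R] [IsNoetherianRing R] (φ : R →+* R)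
    (hφ : Function.Surjective φ) : Function.Injective φ := by
  let K : ℕ →o Ideal R :=
    { toFun := fun n => RingHom.ker (φ ^ n)
      monotone' := monotone_nat_of_le_succ fun n x hx => by
        rw [RingHom.mem_ker] at hx ⊢
        rw [pow_succ']
        show φ ((φ ^ n) x) = 0
        rw [hx, map_zero] }
  obtain ⟨n, hn⟩ := monotone_stabilizes_iff_noetherian.2 inferInstance K
  have hsurj : Function.Surjective (φ ^ n : R →+* R) := by
    rw [RingHom.coe_pow]
    exact hφ.iterate n
  rw [injective_iff_map_eq_zero]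
  intro x hx
  obtain ⟨y, rfl⟩ := hsurj x
  have h1 : y ∈ K (n + 1) := by
    show y ∈ RingHom.ker (φ ^ (n + 1))
    rw [RingHom.mem_ker, pow_succ']
    exact hx
  rw [← hn (n + 1) (Nat.le_succ n)] at h1
  exact h1

variable {k : Type u} [Field k] {σ τ : Type} [Fintype σ] [Fintype τ]

theorem coeff_one_mul (i : σ) (F G : MvPowerSeries σ k) :
    coeff (Finsupp.single i 1) (F * G) =
      constantCoeff F * coeff (Finsupp.single i 1) G + coeff (Finsupp.single i 1) F * constantCoeff G := by
  classical
  rw [coeff_mul, Finsupp.antidiagonal_single, Finset.sum_map,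
    Finset.Nat.sum_antidiagonal_eq_sum_range_succ_mk]
  simp [Finset.sum_range_succ]

theorem constantCoeff_pderiv (i : σ) (f : MvPowerSeries σ k) :
    constantCoeff (pderiv k i f) = coeff (Finsupp.single i 1) f := by
  classical
  rw [← coeff_zero_eq_constantCoeff_apply, coeff_pderiv]
  simp

theorem mem_varIdeal (i : σ) : (X i : MvPowerSeries σ k) ∈ varIdeal σ k := X_mem i

theorem coeff_one_of_mem_sq {f : MvPowerSeries σ k} (hf : f ∈ varIdeal σ k ^ 2) (i : σ) :
    coeff (Finsupp.single i 1) f = 0 := by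
  rw [sq] at hf
  induction hf using Submodule.mul_induction_on' with
  | mem_mul_mem a ha b hb =>
    rw [coeff_one_mul, (mem_varIdeal_iff a).1 ha, (mem_varIdeal_iff b).1 hb]
    simp
  | add a _ b _ ha hb => rw [map_add, ha, hb, add_zero]

theorem pderiv_mem_pow (i : σ) (n : ℕ) {f : MvPowerSeries σ k} (hf : f ∈ varIdeal σ k ^ (n + 1)) :
    pderiv k i f ∈ varIdeal σ k ^ n := by
  induction n generalizing f with
  | zero => simp
  | succ n ih =>
    rw [pow_succ] at hf
    refine Submodule.mul_induction_on hf (fun a ha b hb => ?_) fun a b ha hb => by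
      rw [map_add]; exact add_mem ha hb
    rw [Derivation.leibniz, smul_eq_mul, smul_eq_mul]
    refine add_mem (Ideal.mul_mem_right _ _ ha) ?_
    rw [pow_succ']
    exact Ideal.mul_mem_mul hb (ih ha)

theorem map_varIdeal_le {φ : MvPowerSeries σ k →ₐ[k] MvPowerSeries τ k}
    (hφ : ∀ i, φ (X i) ∈ varIdeal τ k) : (varIdeal σ k).map φ.toRingHom ≤ varIdeal τ k := by
  rw [varIdeal, Ideal.map_span, Ideal.span_le]
  rintro _ ⟨_, ⟨i, rfl⟩, rfl⟩
  exact hφ i

/-- The chain rule. -/
theorem pderiv_map (φ : MvPowerSeries σ k →ₐ[k] MvPowerSeries τ k)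
    (hφ : ∀ i, φ (X i) ∈ varIdeal τ k) (j : τ) (f : MvPowerSeries σ k) :
    pderiv k j (φ f) = ∑ i, φ (pderiv k i f) * pderiv k j (φ (X i)) := by
  classical
  let E : MvPowerSeries σ k → MvPowerSeries τ k := fun f =>
    pderiv k j (φ f) - ∑ i, φ (pderiv k i f) * pderiv k j (φ (X i))
  have hadd : ∀ a b, E (a + b) = E a + E b := fun a b => by
    simp only [E, map_add, add_mul, Finset.sum_add_distrib]; ring
  have hmul : ∀ a b, E (a * b) = φ a * E b + φ b * E a := fun a b => by
    simp only [E, map_mul, Derivation.leibniz, smul_eq_mul, map_add, add_mul,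
      Finset.sum_add_distrib, mul_sub, Finset.mul_sum, mul_assoc]
    ring
  have hC : ∀ r : k, E (C r) = 0 := fun r => by
    have h1 : φ (C r) = C r := φ.commutes r
    simp [E, h1]
  have hX : ∀ i, E (X i) = 0 := fun i => by
    simp only [E]
    rw [Finset.sum_eq_single i, pderiv_X_self, map_one, one_mul, sub_self]
    · intro b _ hb
      rw [pderiv_X_of_ne (Ne.symm hb), map_zero, zero_mul]
    · simp
  have hpoly : ∀ p : MvPolynomial σ k, E (p : MvPowerSeries σ k) = 0 := fun p => by
    induction p using MvPolynomial.induction_on with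
    | C r => rw [MvPolynomial.coe_C]; exact hC r
    | add a b ha hb => rw [MvPolynomial.coe_add, hadd, ha, hb, add_zero]
    | mul_X a i ha => rw [MvPolynomial.coe_mul, MvPolynomial.coe_X, hmul, ha, hX, mul_zero, mul_zero, add_zero]
  have hpow : ∀ n, ∀ g ∈ varIdeal σ k ^ n, φ g ∈ varIdeal τ k ^ n := fun n g hg => by
    refine Ideal.pow_right_mono (map_varIdeal_le hφ) n ?_
    rw [← Ideal.map_pow]
    exact Ideal.mem_map_of_mem φ.toRingHom hg
  haveI := Groth.Calg6.isAdicComplete_varIdeal (σ := τ) (k := k)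
  refine sub_eq_zero.1 ((IsHausdorff.haus' (I := varIdeal τ k) _ fun n => ?_) : E f = 0)
  rw [SModEq.zero, smul_eq_mul, Ideal.mul_top]
  have hres : f - (truncTotal (n + 1) f : MvPowerSeries σ k) ∈ varIdeal σ k ^ (n + 1) := by
    refine mem_varIdeal_pow _ _ fun d hd => ?_
    rw [map_sub, MvPolynomial.coeff_coe, coeff_truncTotal _ hd, sub_self]
  have h1 : E f = E (f - (truncTotal (n + 1) f : MvPowerSeries σ k)) := by
    conv_lhs => rw [← sub_add_cancel f (truncTotal (n + 1) f : MvPowerSeries σ k), hadd, hpoly, add_zero]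
  rw [h1]
  exact sub_mem (pderiv_mem_pow j n (hpow _ _ hres))
    (Ideal.sum_mem _ fun i _ => Ideal.mul_mem_right _ _ (hpow _ _ (pderiv_mem_pow i n hres)))

section Minors

variable {R : Type v} [CommRing R] {ι κ ν : Type} {p : ℕ}

/-- The ideal of `p × p` minors. -/
def minIdeal (J : Matrix ι κ R) (p : ℕ) : Ideal R :=
  Ideal.span {d | ∃ (ρ : Fin p → ι) (γ : Fin p → κ), Function.Injective ρ ∧ Function.Injective γ ∧
    d = (J.submatrix ρ γ).det}

theorem det_submatrix_mem (J : Matrix ι κ R) (ρ : Fin p → ι) (γ : Fin p → κ) :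
    (J.submatrix ρ γ).det ∈ minIdeal J p := by
  classical
  by_cases hρ : Function.Injective ρ
  · by_cases hγ : Function.Injective γ
    · exact Ideal.subset_span ⟨ρ, γ, hρ, hγ, rfl⟩
    · obtain ⟨a, b, hab, hne⟩ := Function.not_injective_iff.1 hγ
      rw [Matrix.det_zero_of_column_eq hne fun c => by simp [Matrix.submatrix, hab]]
      exact zero_mem _
  · obtain ⟨a, b, hab, hne⟩ := Function.not_injective_iff.1 hρ
    rw [Matrix.det_zero_of_row_eq hne (by funext c; simp [Matrix.submatrix, hab])]
    exact zero_mem _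

/-- Column operations do not enlarge the ideal of minors. -/
theorem minIdeal_mul_le [Fintype κ] (J : Matrix ι κ R) (B : Matrix κ ν R) (p : ℕ) :
    minIdeal (J * B) p ≤ minIdeal J p := by
  classical
  rw [minIdeal, Ideal.span_le]
  rintro _ ⟨ρ, γ, -, -, rfl⟩
  rw [SetLike.mem_coe, ← Matrix.det_transpose]
  have hrow : ((J * B).submatrix ρ γ).transpose = fun a => ∑ i : κ, B i (γ a) • (fun b => J (ρ b) i) := by
    funext a b
    simp [Matrix.mul_apply, mul_comm]
  have hdet : ((J * B).submatrix ρ γ).transpose.det = Matrix.detRowAlternating.toMultilinearMap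
      (fun a => ∑ i : κ, B i (γ a) • (fun b => J (ρ b) i)) := congrArg Matrix.det hrow
  rw [hdet, MultilinearMap.map_sum]
  refine Ideal.sum_mem _ fun δ _ => ?_
  rw [MultilinearMap.map_smul_univ, smul_eq_mul]
  refine Ideal.mul_mem_left _ _ ?_
  have h := det_submatrix_mem J ρ δ
  rw [← Matrix.det_transpose] at h
  exact h

theorem minIdeal_map {S : Type w} [CommRing S] (f : R →+* S) (J : Matrix ι κ R) (p : ℕ) :
    (minIdeal J p).map f = minIdeal (J.map f) p := by
  rw [minIdeal, minIdeal, Ideal.map_span]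
  congr 1
  ext d
  constructor
  · rintro ⟨_, ⟨ρ, γ, hρ, hγ, rfl⟩, rfl⟩
    exact ⟨ρ, γ, hρ, hγ, by rw [RingHom.map_det]; rfl⟩
  · rintro ⟨ρ, γ, hρ, hγ, rfl⟩
    exact ⟨_, ⟨ρ, γ, hρ, hγ, rfl⟩, by rw [RingHom.map_det]; rfl⟩

/-- Minors meeting enough columns with entries in `L`. -/
theorem det_mem_pow (M : Matrix (Fin p) (Fin p) R) (L : Ideal R) (T : Finset (Fin p))
    (hT : ∀ a, ∀ b ∈ T, M a b ∈ L) : M.det ∈ L ^ T.card := by
  classical
  rw [Matrix.det_apply]
  refine Ideal.sum_mem _ fun e _ => ?_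
  refine Submodule.smul_of_tower_mem _ _ ?_
  rw [← Finset.prod_mul_prod_compl T]
  refine Ideal.mul_mem_right _ _ ?_
  have := Ideal.prod_mem_prod (ι := Fin p) (s := T) (I := fun _ => L) (x := fun i => M (e i) i)
    fun i hi => hT _ i hi
  rwa [Finset.prod_const] at this

end Minors

section Singular

variable {m : ℕ}

/-- The Jacobian matrix. -/
noncomputable def jac (f : Fin m → MvPowerSeries σ k) : Matrix (Fin m) σ (MvPowerSeries σ k) :=
  Matrix.of fun j i => pderiv k i (f j)

/-- The ideal generated by the minors of the Jacobian matrix and the series. -/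
noncomputable def sing (f : Fin m → MvPowerSeries σ k) (p : ℕ) : Ideal (MvPowerSeries σ k) :=
  minIdeal (jac f) p ⊔ Ideal.span (Set.range f)

theorem sing_map_le (φ : MvPowerSeries σ k →ₐ[k] MvPowerSeries τ k)
    (hφ : ∀ i, φ (X i) ∈ varIdeal τ k) (f : Fin m → MvPowerSeries σ k) (p : ℕ) :
    sing (fun j => φ (f j)) p ≤ (sing f p).map φ.toRingHom := by
  rw [sing, sing, Ideal.map_sup, minIdeal_map, Ideal.map_span, ← Set.range_comp]
  refine sup_le_sup (le_trans (le_of_eq ?_) (minIdeal_mul_le ((jac f).map φ.toRingHom)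
    (Matrix.of fun i j => pderiv k j (φ (X i))) p)) le_rfl
  congr 1
  ext1 j l
  rw [jac, Matrix.of_apply, Matrix.mul_apply, pderiv_map φ hφ]
  rfl

theorem equiv_X_mem (e : MvPowerSeries σ k ≃ₐ[k] MvPowerSeries τ k) (i : σ) :
    e (X i) ∈ varIdeal τ k := by
  rw [← maximalIdeal_eq, IsLocalRing.mem_maximalIdeal, mem_nonunits_iff]
  intro h
  have h1 := h.map e.symm
  rw [e.symm_apply_apply, isUnit_iff_constantCoeff, constantCoeff_X] at h1
  exact not_isUnit_zero h1

/-- Coordinate changes. -/
theorem sing_equiv (e : MvPowerSeries σ k ≃ₐ[k] MvPowerSeries τ k) (f : Fin m → MvPowerSeries σ k)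
    (p : ℕ) : sing (fun j => e (f j)) p = (sing f p).map e.toAlgHom.toRingHom := by
  refine le_antisymm (sing_map_le e.toAlgHom (equiv_X_mem e) f p) ?_
  have h := sing_map_le e.symm.toAlgHom (equiv_X_mem e.symm) (fun j => e (f j)) p
  have h1 : (fun j => e.symm.toAlgHom (e (f j))) = f := funext fun j => e.symm_apply_apply _
  rw [h1] at h
  refine (Ideal.map_mono h).trans (le_of_eq ?_)
  rw [Ideal.map_map]
  convert Ideal.map_id _
  ext x
  exact congrArg _ (e.apply_symm_apply x)

end Singular

end Groth.PlaneCurve.SeriesNode
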