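import Groth.Agent.PlaneCurve.SeriesNode.Jacobian

/-!
Splitting off the smooth equations of a quotient of a power series ring.
-/

set_option autoImplicit false
set_option linter.style.longLine false

universe u

open MvPowerSeries Groth.SGA7.PS

namespace Groth.PlaneCurve.SeriesNode

variable {k : Type u} [Field k] {n s r : ℕ}

section Proj

variable (e : Fin s ⊕ Fin r ≃ Fin n)

/-- Forgetting the last variables. -/
noncomputable def proj : MvPowerSeries (Fin n) k →ₐ[k] MvPowerSeries (Fin s) k :=
  haveI := Groth.Calg6.isAdicComplete_varIdeal (σ := Fin s) (k := k)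
  Groth.Calg6.evalAdic (varIdeal (Fin s) k) (fun i => Sum.elim (fun a => X a) (fun _ => 0) (e.symm i))
    (fun i => by rcases e.symm i with a | b <;> simp [X_mem])

/-- The first variables. -/
noncomputable def incl : MvPowerSeries (Fin s) k →ₐ[k] MvPowerSeries (Fin n) k :=
  haveI := Groth.Calg6.isAdicComplete_varIdeal (σ := Fin n) (k := k)
  Groth.Calg6.evalAdic (varIdeal (Fin n) k) (fun a => X (e (Sum.inl a))) (fun _ => X_mem _)

theorem proj_inl (a : Fin s) : proj (k := k) e (X (e (Sum.inl a))) = X a := by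
  rw [proj, Groth.Calg6.evalAdic_X]; simp

theorem proj_inr (b : Fin r) : proj (k := k) e (X (e (Sum.inr b))) = 0 := by
  rw [proj, Groth.Calg6.evalAdic_X]; simp

theorem incl_X (a : Fin s) : incl (k := k) e (X a) = X (e (Sum.inl a)) := by
  rw [incl, Groth.Calg6.evalAdic_X]

theorem proj_mem (i : Fin n) : proj (k := k) e (X i) ∈ varIdeal (Fin s) k := by
  obtain ⟨a | b, rfl⟩ := e.surjective i
  · rw [proj_inl]; exact X_mem a
  · rw [proj_inr]; exact zero_mem _

theorem proj_incl (x : MvPowerSeries (Fin s) k) : proj e (incl e x) = x := by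
  haveI := Groth.Calg6.isAdicComplete_varIdeal (σ := Fin s) (k := k)
  have h : (proj e).toRingHom.comp (incl e).toRingHom = RingHom.id (MvPowerSeries (Fin s) k) := by
    refine Groth.ArtfunDeform.psHom_ext (fun c => ?_) (fun a => ?_) fun a => ?_
    · exact ((proj e).comp (incl e)).commutes c
    · show proj e (incl e (X a)) = X a
      rw [incl_X, proj_inl]
    · show proj e (incl e (X a)) ∈ _
      rw [incl_X, proj_inl, maximalIdeal_eq]
      exact X_mem a
  exact congrArg (fun t : _ →+* _ => t x) h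

theorem proj_surjective : Function.Surjective (proj (k := k) e) := fun x => ⟨_, proj_incl e x⟩

theorem mem_span_of_proj_eq_zero {x : MvPowerSeries (Fin n) k} (hx : proj e x = 0) :
    x ∈ Ideal.span (Set.range fun b => (X (e (Sum.inr b)) : MvPowerSeries (Fin n) k)) := by
  set T := Ideal.span (Set.range fun b => (X (e (Sum.inr b)) : MvPowerSeries (Fin n) k))
  have hT : T ≤ IsLocalRing.maximalIdeal (MvPowerSeries (Fin n) k) := by
    rw [maximalIdeal_eq, Ideal.span_le]
    rintro _ ⟨b, rfl⟩
    exact X_mem _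
  haveI : Nontrivial (MvPowerSeries (Fin n) k ⧸ T) := Ideal.Quotient.nontrivial_iff.mpr
    (ne_top_of_le_ne_top (IsLocalRing.maximalIdeal.isMaximal _).ne_top hT)
  haveI : IsLocalRing (MvPowerSeries (Fin n) k ⧸ T) :=
    .of_surjective' (Ideal.Quotient.mk T) Ideal.Quotient.mk_surjective
  haveI := IsLocalHom.of_surjective (Ideal.Quotient.mk T) Ideal.Quotient.mk_surjective
  have h : ((Ideal.Quotient.mk T).comp (incl e).toRingHom).comp (proj e).toRingHom = Ideal.Quotient.mk T := by
    refine Groth.ArtfunDeform.psHom_ext (fun c => ?_) (fun i => ?_) fun i => ?_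
    · exact congrArg _ (((incl e).comp (proj e)).commutes c)
    · obtain ⟨a | b, rfl⟩ := e.surjective i
      · show Ideal.Quotient.mk T (incl e (proj e _)) = _
        rw [proj_inl, incl_X]
      · show Ideal.Quotient.mk T (incl e (proj e _)) = _
        rw [proj_inr, map_zero, map_zero, eq_comm, Ideal.Quotient.eq_zero_iff_mem]
        exact Ideal.subset_span ⟨b, rfl⟩
    · refine map_nonunit (Ideal.Quotient.mk T) _ ?_
      rw [maximalIdeal_eq]
      refine map_varIdeal_le (fun a => ?_) (Ideal.mem_map_of_mem _ (proj_mem e i))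
      rw [incl_X]
      exact X_mem _
  have h2 := congrArg (fun t : _ →+* _ => t x) h
  simp only [RingHom.comp_apply, AlgHom.toRingHom_eq_coe, RingHom.coe_coe, hx, map_zero] at h2
  exact Ideal.Quotient.eq_zero_iff_mem.1 h2.symm

theorem pderiv_proj (a : Fin s) (x : MvPowerSeries (Fin n) k) :
    pderiv k a (proj e x) = proj e (pderiv k (e (Sum.inl a)) x) := by
  classical
  rw [pderiv_map (proj e) (proj_mem e), Finset.sum_eq_single (e (Sum.inl a))]
  · rw [proj_inl, pderiv_X_self, mul_one]
  · intro i _ hi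
    obtain ⟨a' | b, rfl⟩ := e.surjective i
    · rw [proj_inl, pderiv_X_of_ne (fun h => hi (by rw [h])), mul_zero]
    · rw [proj_inr, map_zero, mul_zero]
  · simp

end Proj

/-- A series whose linear part vanishes after a linear change can be reduced. -/
theorem mem_sq_of_linear {σ : Type} [Fintype σ] {x : MvPowerSeries σ k} (h0 : x ∈ varIdeal σ k)
    (h1 : (fun i => coeff (Finsupp.single i 1) x) = 0) : x ∈ varIdeal σ k ^ 2 :=
  mem_varIdeal_sq x ((mem_varIdeal_iff x).1 h0) fun i => congrFun h1 i

/-- The linear part of a series. -/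
noncomputable def linPart {σ : Type} [Fintype σ] : MvPowerSeries σ k →ₗ[k] (σ → k) :=
  LinearMap.pi fun i => coeff (Finsupp.single i 1)

theorem exists_reduce {m : ℕ} (f : Fin m → MvPowerSeries (Fin n) k)
    (hf : ∀ j, f j ∈ varIdeal (Fin n) k) :
    ∃ (s r : ℕ) (e : Fin s ⊕ Fin r ≃ Fin n) (τ : MvPowerSeries (Fin n) k ≃ₐ[k] MvPowerSeries (Fin n) k)
      (ρ : Fin r → Fin m), Function.Injective ρ ∧ (∀ b, τ (f (ρ b)) = X (e (Sum.inr b))) ∧
      ∀ j, proj e (τ (f j)) ∈ varIdeal (Fin s) k ^ 2 := by
  classical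
  let v : Fin m → (Fin n → k) := fun j => linPart (f j)
  obtain ⟨κ, a, ha, hspan, hli⟩ := exists_linearIndependent' k v
  haveI : Finite κ := Finite.of_injective a ha
  haveI : Fintype κ := Fintype.ofFinite κ
  let bs := Module.Basis.sumExtend hli
  haveI : Finite (κ ⊕ Module.Basis.sumExtendIndex hli) := Module.Finite.finite_basis bs
  haveI : Finite (Module.Basis.sumExtendIndex hli) :=
    Finite.of_injective (Sum.inr : _ → κ ⊕ Module.Basis.sumExtendIndex hli) Sum.inr_injective
  haveI : Fintype (Module.Basis.sumExtendIndex hli) := Fintype.ofFinite _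
  let eκ := (Fintype.equivFin κ).symm
  let eC := (Fintype.equivFin (Module.Basis.sumExtendIndex hli)).symm
  let idx : Fin (Fintype.card (Module.Basis.sumExtendIndex hli)) ⊕ Fin (Fintype.card κ) ≃
      κ ⊕ Module.Basis.sumExtendIndex hli := (Equiv.sumComm _ _).trans (Equiv.sumCongr eκ eC)
  let B := bs.reindex idx.symm
  let e : Fin (Fintype.card (Module.Basis.sumExtendIndex hli)) ⊕ Fin (Fintype.card κ) ≃ Fin n :=
    B.indexEquiv (Pi.basisFun k (Fin n))
  let ρ : Fin (Fintype.card κ) → Fin m := fun b => a (eκ b)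
  have hB : ∀ b, B (Sum.inr b) = linPart (f (ρ b)) := fun b => by
    show bs.reindex idx.symm (Sum.inr b) = _
    rw [Module.Basis.reindex_apply]
    show bs (Sum.inl (eκ b)) = _
    simp [bs, Module.Basis.sumExtend]
    rfl
  -- the coordinate change
  let img : Fin n → MvPowerSeries (Fin n) k := fun i =>
    Sum.elim (fun c => ∑ i', C (B (Sum.inl c) i') * X i') (fun b => f (ρ b)) (e.symm i)
  have himg : ∀ i, img i ∈ varIdeal (Fin n) k := by
    intro i
    simp only [img]
    rcases e.symm i with c | b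
    · exact Ideal.sum_mem _ fun i' _ => Ideal.mul_mem_left _ _ (X_mem i')
    · exact hf _
  have hlin : ∀ i, linPart (img i) = B (e.symm i) := by
    intro i
    simp only [img]
    rcases e.symm i with c | b
    · funext l
      simp [linPart, coeff_one_mul, coeff_X, Finsupp.single_left_inj, eq_comm]
    · exact (hB b).symm
  haveI := Groth.Calg6.isAdicComplete_varIdeal (σ := Fin n) (k := k)
  let θ : MvPowerSeries (Fin n) k →ₐ[k] MvPowerSeries (Fin n) k :=
    Groth.Calg6.evalAdic (varIdeal (Fin n) k) img himg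
  have hθX : ∀ i, θ (X i) = img i := Groth.Calg6.evalAdic_X _ _ _
  have hθm : ∀ i, θ (X i) ∈ varIdeal (Fin n) k := fun i => hθX i ▸ himg i
  have hmap : (varIdeal (Fin n) k).map θ.toRingHom = varIdeal (Fin n) k := by
    refine le_antisymm (map_varIdeal_le hθm) (le_of_le_sup_mul ?_)
    rw [← sq]
    conv_lhs => rw [varIdeal]
    rw [Ideal.span_le]
    rintro _ ⟨i, rfl⟩
    let c := B.repr (Pi.single i 1)
    refine Submodule.mem_sup.2 ⟨∑ l, C (c (e.symm l)) * img l, Ideal.sum_mem _ fun l _ => ?_,
      X i - ∑ l, C (c (e.symm l)) * img l, ?_, by ring⟩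
    · refine Ideal.mul_mem_left _ _ ?_
      rw [← hθX]
      exact Ideal.mem_map_of_mem θ.toRingHom (X_mem l)
    · refine mem_sq_of_linear (sub_mem (X_mem i) (Ideal.sum_mem _ fun l _ => Ideal.mul_mem_left _ _ (himg l))) ?_
      show linPart (X i - ∑ l, C (c (e.symm l)) * img l) = 0
      have h1 : ∀ l, linPart (C (c (e.symm l)) * img l) = c (e.symm l) • B (e.symm l) := fun l => by
        rw [← hlin l, ← smul_eq_C_mul, map_smul]
      have h2 : linPart (X i : MvPowerSeries (Fin n) k) = Pi.single i 1 := by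
        funext l
        simp [linPart, coeff_X, Finsupp.single_left_inj, Pi.single_apply]
      rw [map_sub, map_sum, h2, sub_eq_zero]
      simp only [h1]
      rw [Equiv.sum_comp e.symm (fun z => c z • B z)]
      exact (B.sum_repr _).symm
  have hsurj : Function.Surjective θ := by
    haveI : IsHausdorff ((varIdeal (Fin n) k).map θ.toRingHom) (MvPowerSeries (Fin n) k) := by
      rw [hmap]; infer_instance
    refine Groth.Calg6.surjective_of_map_varIdeal θ.toRingHom fun x => ⟨constantCoeff x, ?_⟩
    rw [hmap, mem_varIdeal_iff, map_sub, show θ.toRingHom (C (constantCoeff x)) = C (constantCoeff x) from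
      θ.commutes _, constantCoeff_C, sub_self]
  let τ := (AlgEquiv.ofBijective θ ⟨injective_of_surjective_endo θ.toRingHom hsurj, hsurj⟩).symm
  have hτ : ∀ b, τ (f (ρ b)) = X (e (Sum.inr b)) := fun b => by
    rw [AlgEquiv.symm_apply_eq]
    show _ = θ (X (e (Sum.inr b)))
    rw [hθX]
    simp [img]
  refine ⟨_, _, e, τ, ρ, ha.comp eκ.injective, hτ, fun j => ?_⟩
  have hj : v j ∈ Submodule.span k (Set.range (v ∘ a)) := hspan.symm ▸ Submodule.subset_span ⟨j, rfl⟩
  obtain ⟨c, hc⟩ := (Submodule.mem_span_range_iff_exists_fun k).1 hj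
  have hsq : f j - ∑ x, c x • f (a x) ∈ varIdeal (Fin n) k ^ 2 := by
    refine mem_sq_of_linear (sub_mem (hf j) (Ideal.sum_mem _ fun x _ =>
      Submodule.smul_of_tower_mem _ _ (hf _))) ?_
    show linPart (f j - ∑ x, c x • f (a x)) = 0
    rw [map_sub, map_sum, sub_eq_zero]
    simp only [map_smul]
    exact hc.symm
  have h2 : proj e (τ (f j - ∑ x, c x • f (a x))) ∈ varIdeal (Fin _) k ^ 2 := by
    refine Ideal.pow_right_mono (map_varIdeal_le (φ := (proj e).comp τ.toAlgHom) fun i => ?_) 2 ?_
    · exact map_varIdeal_le (proj_mem e) (Ideal.mem_map_of_mem _ (equiv_X_mem τ i))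
    · rw [← Ideal.map_pow]
      exact Ideal.mem_map_of_mem ((proj e).comp τ.toAlgHom).toRingHom hsq
  have h3 : ∀ x, proj e (τ (f (a x))) = 0 := fun x => by
    have := hτ (eκ.symm x)
    simp only [ρ, Equiv.apply_symm_apply] at this
    rw [this, proj_inr]
  simpa [map_sub, map_sum, map_smul, h3] using h2

end Groth.PlaneCurve.SeriesNode
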