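import Groth.Agent.PlaneCurve.SeriesNode.Plane
import Groth.Agent.PlaneCurve.SeriesNode.Reduce

/-!
The Jacobian criterion for nodes in a power series ring in any number of variables.
-/

set_option autoImplicit false
set_option linter.style.longLine false

universe u

open MvPowerSeries Groth.SGA7.PS Groth.Curves1.Node

namespace Groth.PlaneCurve.SeriesNode

variable {k : Type u} [Field k] {n m : ℕ}

/-- The reduction of a quotient of a power series ring. -/
structure Red (f : Fin m → MvPowerSeries (Fin n) k) (s r : ℕ) where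
  e : Fin s ⊕ Fin r ≃ Fin n
  τ : MvPowerSeries (Fin n) k ≃ₐ[k] MvPowerSeries (Fin n) k
  ρ : Fin r → Fin m
  hτ : ∀ b, τ (f (ρ b)) = X (e (Sum.inr b))
  hsq : ∀ j, proj e (τ (f j)) ∈ varIdeal (Fin s) k ^ 2

variable {f : Fin m → MvPowerSeries (Fin n) k} {s r : ℕ} (D : Red f s r)

namespace Red

/-- The composite map to the plane. -/
noncomputable def Φ : MvPowerSeries (Fin n) k →ₐ[k] MvPowerSeries (Fin s) k := (proj D.e).comp D.τ.toAlgHom

/-- The reduced relations. -/
noncomputable def g : Fin m → MvPowerSeries (Fin s) k := fun j => proj D.e (D.τ (f j))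

include D in
theorem n_eq : n = s + r := by
  simpa using (Fintype.card_congr D.e).symm

theorem Φ_surjective : Function.Surjective D.Φ :=
  (proj_surjective D.e).comp D.τ.surjective

theorem ker_Φ_le : RingHom.ker D.Φ.toRingHom ≤ Ideal.span (Set.range f) := by
  intro x hx
  have h1 := mem_span_of_proj_eq_zero D.e (x := D.τ x) hx
  have h2 := Ideal.mem_map_of_mem D.τ.symm.toAlgHom.toRingHom h1
  rw [Ideal.map_span, ← Set.range_comp] at h2
  have h3 : x ∈ Ideal.span (Set.range fun b => D.τ.symm (X (D.e (Sum.inr b)))) :=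
    (D.τ.symm_apply_apply x) ▸ h2
  refine Ideal.span_le.2 ?_ h3
  rintro _ ⟨b, rfl⟩
  simp only
  rw [← D.hτ b, AlgEquiv.symm_apply_apply]
  exact Ideal.subset_span ⟨_, rfl⟩

theorem map_span : (Ideal.span (Set.range f)).map D.Φ.toRingHom = Ideal.span (Set.range D.g) := by
  rw [Ideal.map_span, ← Set.range_comp]; rfl

/-- The quotient is a quotient of the plane. -/
theorem nonempty_equiv : Nonempty ((MvPowerSeries (Fin n) k ⧸ Ideal.span (Set.range f)) ≃ₐ[k]
    (MvPowerSeries (Fin s) k ⧸ Ideal.span (Set.range D.g))) := by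
  let q := (Ideal.Quotient.mkₐ k (Ideal.span (Set.range D.g))).comp D.Φ
  have hker : RingHom.ker q = Ideal.span (Set.range f) := by
    ext x
    rw [RingHom.mem_ker]
    show Ideal.Quotient.mk _ (D.Φ x) = 0 ↔ _
    rw [Ideal.Quotient.eq_zero_iff_mem, ← D.map_span]
    constructor
    · intro hx
      obtain ⟨y, hy, hyx⟩ := (Ideal.mem_map_iff_of_surjective D.Φ.toRingHom D.Φ_surjective).1 hx
      have h1 : x - y ∈ RingHom.ker D.Φ.toRingHom := by
        show D.Φ (x - y) = 0
        rw [map_sub, show D.Φ y = D.Φ x from hyx, sub_self]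
      simpa using add_mem (D.ker_Φ_le h1) hy
    · exact fun hx => Ideal.mem_map_of_mem D.Φ.toRingHom hx
  exact ⟨(Ideal.quotientEquivAlgOfEq k hker.symm).trans
    (Ideal.quotientKerAlgEquivOfSurjective (f := q) (Ideal.Quotient.mk_surjective.comp D.Φ_surjective))⟩

theorem sing_map : (sing f (n - 1)).map D.τ.toAlgHom.toRingHom = sing (fun j => D.τ (f j)) (n - 1) :=
  (sing_equiv D.τ f (n - 1)).symm

include D in
/-- With at most one variable left a maximal minor is a unit. -/
theorem sing_eq_top (hs : s ≤ 1) : sing f (n - 1) = ⊤ := by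
  classical
  have hle : n - 1 ≤ r := by have := D.n_eq; omega
  have h1 : (1 : MvPowerSeries (Fin n) k) ∈ sing (fun j => D.τ (f j)) (n - 1) := by
    refine Submodule.mem_sup_left ?_
    have h := det_submatrix_mem (jac fun j => D.τ (f j)) (fun a : Fin (n - 1) => D.ρ (Fin.castLE hle a))
      (fun a => D.e (Sum.inr (Fin.castLE hle a)))
    convert h using 1
    refine (Matrix.det_one (R := MvPowerSeries (Fin n) k) (n := Fin (n - 1))).symm.trans (congrArg Matrix.det ?_)
    ext a b : 2
    simp only [Matrix.submatrix_apply, jac, Matrix.of_apply, D.hτ]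
    by_cases hab : a = b
    · subst hab; rw [Matrix.one_apply_eq, pderiv_X_self]
    · rw [Matrix.one_apply_ne hab, pderiv_X_of_ne]
      intro h2
      refine hab ?_
      have := Sum.inr_injective (D.e.injective h2)
      first
        | exact Fin.castLE_injective hle this
        | exact (Fin.castLE_injective hle this).symm
  rw [← D.sing_map] at h1
  have h2 := (Ideal.eq_top_iff_one _).2 h1
  by_contra hne
  obtain ⟨M, hM, hle⟩ := Ideal.exists_le_maximal _ hne
  obtain rfl := IsLocalRing.eq_maximalIdeal hM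
  have h3 := (Ideal.map_mono (f := D.τ.toAlgHom.toRingHom) hle).trans
    (Ideal.map_mono (le_of_eq maximalIdeal_eq)) |>.trans (map_varIdeal_le (φ := D.τ.toAlgHom) (equiv_X_mem D.τ))
  rw [h2, top_le_iff, ← maximalIdeal_eq] at h3
  exact (IsLocalRing.maximalIdeal.isMaximal _).ne_top h3

theorem proj_entry (j : Fin m) (a : Fin s) :
    proj D.e (jac (fun j => D.τ (f j)) j (D.e (Sum.inl a))) = pderiv k a (D.g j) :=
  (pderiv_proj D.e a _).symm

theorem map_sing_proj_le (L : Ideal (MvPowerSeries (Fin s) k)) (hL : ∀ j a, pderiv k a (D.g j) ∈ L) :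
    (sing (fun j => D.τ (f j)) (n - 1)).map (proj D.e).toRingHom ≤
      L ^ (s - 1) ⊔ Ideal.span (Set.range D.g) := by
  classical
  rw [sing, Ideal.map_sup, minIdeal_map, Ideal.map_span, ← Set.range_comp]
  refine sup_le_sup ?_ le_rfl
  rw [minIdeal, Ideal.span_le]
  rintro _ ⟨ρ, γ, -, hγ, rfl⟩
  let T := Finset.univ.filter fun b => ∃ a, D.e (Sum.inl a) = γ b
  have hT : s - 1 ≤ T.card := by
    have h1 : (Finset.univ \ T).card ≤ r := by
      have h2 : (Finset.univ \ T).image γ ⊆ Finset.univ.image (fun b => D.e (Sum.inr b)) := by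
        intro x hx
        obtain ⟨b, hb, rfl⟩ := Finset.mem_image.1 hx
        obtain ⟨z, hz⟩ := D.e.surjective (γ b)
        rcases z with a | c
        · exact absurd (⟨a, hz⟩ : ∃ a, D.e (Sum.inl a) = γ b) (by simpa [T] using hb)
        · exact Finset.mem_image.2 ⟨c, Finset.mem_univ _, hz⟩
      have h3 := Finset.card_le_card h2
      rw [Finset.card_image_of_injective _ hγ] at h3
      exact h3.trans (Finset.card_image_le.trans (by simp))
    rw [Finset.card_sdiff_of_subset (Finset.subset_univ T), Finset.card_univ, Fintype.card_fin] at h1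
    have := D.n_eq
    omega
  refine Ideal.pow_le_pow_right hT (det_mem_pow _ L T fun a b hb => ?_)
  obtain ⟨c, hc⟩ := (Finset.mem_filter.1 hb).2
  simp only [Matrix.submatrix_apply, Matrix.map_apply, ← hc]
  show proj D.e (jac (fun j => D.τ (f j)) (ρ a) (D.e (Sum.inl c))) ∈ L
  rw [D.proj_entry]
  exact hL _ _

theorem map_varIdeal_proj : (varIdeal (Fin n) k).map (proj D.e).toRingHom = varIdeal (Fin s) k := by
  refine le_antisymm (map_varIdeal_le (proj_mem D.e)) ?_
  refine Ideal.span_le.2 ?_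
  rintro _ ⟨a, rfl⟩
  show X a ∈ _
  rw [← proj_inl (k := k) D.e a]
  exact Ideal.mem_map_of_mem (proj D.e).toRingHom (X_mem _)

theorem g_mem_pow (j : Fin m) : D.g j ∈ varIdeal (Fin s) k ^ 2 := D.hsq j

theorem pderiv_g_mem (j : Fin m) (a : Fin s) : pderiv k a (D.g j) ∈ varIdeal (Fin s) k := by
  have := pderiv_mem_pow a 1 (D.g_mem_pow j)
  rwa [pow_one] at this

theorem map_τ_varIdeal : (varIdeal (Fin n) k).map D.τ.toAlgHom.toRingHom = varIdeal (Fin n) k := by
  refine le_antisymm (map_varIdeal_le (φ := D.τ.toAlgHom) (equiv_X_mem D.τ)) fun x hx => ?_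
  rw [← D.τ.apply_symm_apply x]
  exact Ideal.mem_map_of_mem D.τ.toAlgHom.toRingHom
    (map_varIdeal_le (φ := D.τ.symm.toAlgHom) (equiv_X_mem D.τ.symm) (Ideal.mem_map_of_mem _ hx))

theorem map_Φ_varIdeal : (varIdeal (Fin n) k).map D.Φ.toRingHom = varIdeal (Fin s) k := by
  have h : D.Φ.toRingHom = (proj D.e).toRingHom.comp D.τ.toAlgHom.toRingHom := rfl
  rw [h, ← Ideal.map_map, D.map_τ_varIdeal, D.map_varIdeal_proj]

include D in
/-- The criterion forces two variables. -/
theorem s_eq_two (h : sing f (n - 1) = varIdeal (Fin n) k) : s = 2 := by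
  rcases Nat.lt_or_ge s 2 with hs | hs
  · exfalso
    have := D.sing_eq_top (by omega)
    rw [h, ← maximalIdeal_eq] at this
    exact (IsLocalRing.maximalIdeal.isMaximal _).ne_top this
  by_contra hne
  have hs3 : 3 ≤ s := by omega
  have h1 := D.map_sing_proj_le (varIdeal (Fin s) k) D.pderiv_g_mem
  rw [← D.sing_map, h, D.map_τ_varIdeal, D.map_varIdeal_proj] at h1
  have h2 : varIdeal (Fin s) k ≤ varIdeal (Fin s) k ^ 2 :=
    h1.trans (sup_le (Ideal.pow_le_pow_right (by omega))
      (Ideal.span_le.2 (by rintro _ ⟨j, rfl⟩; exact D.g_mem_pow j)))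
  have h3 := coeff_one_of_mem_sq (h2 (X_mem (⟨0, by omega⟩ : Fin s))) ⟨0, by omega⟩
  simp [coeff_X] at h3

theorem map_sing_eq (D : Red f 2 r) :
    (sing (fun j => D.τ (f j)) (n - 1)).map (proj D.e).toRingHom = sing D.g 1 := by
  classical
  refine le_antisymm ((D.map_sing_proj_le (minIdeal (jac D.g) 1)
    fun j a => entry_mem (jac D.g) j a).trans (by simp [sing])) ?_
  rw [sing, sing, Ideal.map_sup, Ideal.map_span, ← Set.range_comp]
  refine sup_le_sup (minIdeal_one_le _ _ fun j a => ?_) le_rfl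
  rw [minIdeal_map]
  have hn : n - 1 = 1 + r := by have := D.n_eq; omega
  let q : Fin (n - 1) ≃ Fin 1 ⊕ Fin r := (finCongr hn).trans finSumFinEquiv.symm
  have h := det_submatrix_mem ((jac fun j => D.τ (f j)).map (proj D.e).toRingHom)
    (Sum.elim (fun _ : Fin 1 => j) D.ρ ∘ q) (Sum.elim (fun _ : Fin 1 => D.e (Sum.inl a)) (fun b => D.e (Sum.inr b)) ∘ q)
  rw [← Matrix.submatrix_submatrix, Matrix.det_submatrix_equiv_self] at h
  rw [← Matrix.fromBlocks_toBlocks (((jac fun j => D.τ (f j)).map (proj D.e).toRingHom).submatrix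
    (Sum.elim (fun _ : Fin 1 => j) D.ρ) (Sum.elim (fun _ : Fin 1 => D.e (Sum.inl a)) (fun b => D.e (Sum.inr b))))] at h
  have hne : ∀ b, D.e (Sum.inr b) ≠ D.e (Sum.inl a) := fun b h' => by cases D.e.injective h'
  have h21 : (((jac fun j => D.τ (f j)).map (proj D.e).toRingHom).submatrix
      (Sum.elim (fun _ : Fin 1 => j) D.ρ) (Sum.elim (fun _ : Fin 1 => D.e (Sum.inl a)) (fun b => D.e (Sum.inr b)))).toBlocks₂₁ = 0 := by
    refine Matrix.ext fun b c => ?_
    show proj D.e (pderiv k (D.e (Sum.inl a)) (D.τ (f (D.ρ b)))) = 0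
    rw [D.hτ, pderiv_X_of_ne (hne b), map_zero]
  have h22 : (((jac fun j => D.τ (f j)).map (proj D.e).toRingHom).submatrix
      (Sum.elim (fun _ : Fin 1 => j) D.ρ) (Sum.elim (fun _ : Fin 1 => D.e (Sum.inl a)) (fun b => D.e (Sum.inr b)))).toBlocks₂₂ = 1 := by
    refine Matrix.ext fun b c => ?_
    show proj D.e (pderiv k (D.e (Sum.inr c)) (D.τ (f (D.ρ b)))) = (1 : Matrix _ _ (MvPowerSeries (Fin 2) k)) b c
    rw [D.hτ]
    by_cases hbc : b = c
    · subst hbc; rw [pderiv_X_self, map_one, Matrix.one_apply_eq]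
    · rw [pderiv_X_of_ne, map_zero, Matrix.one_apply_ne hbc]
      exact fun h' => hbc (by have := Sum.inr_injective (D.e.injective h'); first | exact this | exact this.symm)
  rw [h21, h22, Matrix.det_fromBlocks_zero₂₁, Matrix.det_one, mul_one, Matrix.det_fin_one] at h
  have h4 : pderiv k a (D.g j) = proj D.e (jac (fun j => D.τ (f j)) j (D.e (Sum.inl a))) := (D.proj_entry j a).symm
  show pderiv k a (D.g j) ∈ _
  rw [h4]
  exact h

/-- The criterion, transported to the plane. -/
theorem sing_iff (D : Red f 2 r) :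
    sing f (n - 1) = varIdeal (Fin n) k ↔ sing D.g 1 = varIdeal (Fin 2) k := by
  constructor
  · intro h
    rw [← D.map_sing_eq, ← D.sing_map, h, D.map_τ_varIdeal, D.map_varIdeal_proj]
  · intro h
    have hsurj := D.Φ_surjective
    have h1 : (sing f (n - 1)).map D.Φ.toRingHom = varIdeal (Fin 2) k := by
      rw [show D.Φ.toRingHom = (proj D.e).toRingHom.comp D.τ.toAlgHom.toRingHom from rfl, ← Ideal.map_map,
        D.sing_map, D.map_sing_eq, h]
    have h2 := congrArg (Ideal.comap D.Φ.toRingHom) h1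
    have hk : Ideal.comap D.Φ.toRingHom ⊥ ≤ sing f (n - 1) := fun x hx => Submodule.mem_sup_right (D.ker_Φ_le hx)
    rw [Ideal.comap_map_of_surjective D.Φ.toRingHom hsurj, sup_eq_left.2 hk] at h2
    rw [h2, ← maximalIdeal_eq, ← maximalIdeal_eq]
    exact IsLocalRing.eq_maximalIdeal (Ideal.comap_isMaximal_of_surjective _ hsurj)

end Red

theorem exists_red (f : Fin m → MvPowerSeries (Fin n) k) (hf : ∀ j, f j ∈ varIdeal (Fin n) k) :
    ∃ (s r : ℕ), Nonempty (Red f s r) := by
  obtain ⟨s, r, e, τ, ρ, -, hτ, hsq⟩ := exists_reduce f hf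
  exact ⟨s, r, ⟨⟨e, τ, ρ, hτ, hsq⟩⟩⟩

/-- A surjection onto a quotient by relations of order two does not drop the number of variables. -/
theorem le_of_surjective {a b : ℕ} (K : Ideal (MvPowerSeries (Fin b) k)) (hK : K ≤ varIdeal (Fin b) k ^ 2)
    (ψ : MvPowerSeries (Fin a) k →ₐ[k] MvPowerSeries (Fin b) k ⧸ K) (hψ : Function.Surjective ψ) :
    b ≤ a := by
  classical
  choose h hh using fun i : Fin a => Ideal.Quotient.mk_surjective (ψ (X i))
  have key : ∀ l : Fin b, (Pi.single l 1 : Fin b → k) ∈ Submodule.span k (Set.range fun i => linPart (h i)) := by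
    intro l
    obtain ⟨y, hy⟩ := hψ (Ideal.Quotient.mk K (X l))
    have hKm : K ≤ varIdeal (Fin b) k := hK.trans (Ideal.pow_le_self two_ne_zero)
    have hy0 : constantCoeff y = 0 := by
      by_contra hne
      have h1 := (isUnit_iff_constantCoeff.2 (Ne.isUnit hne)).map ψ
      rw [hy] at h1
      obtain ⟨w, hw⟩ := h1.exists_right_inv
      obtain ⟨w, rfl⟩ := Ideal.Quotient.mk_surjective w
      rw [← map_mul, ← map_one (Ideal.Quotient.mk K), Ideal.Quotient.eq] at hw
      have h2 := (mem_varIdeal_iff _).1 (hKm hw)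
      simp at h2
    have hhm : ∀ i, constantCoeff (h i) = 0 := by
      intro i
      by_contra hne
      have h1 : IsUnit (ψ (X i)) := hh i ▸ (isUnit_iff_constantCoeff.2 (Ne.isUnit hne)).map (Ideal.Quotient.mk K)
      obtain ⟨w, hw⟩ := h1.exists_right_inv
      obtain ⟨w, rfl⟩ := hψ w
      rw [← map_mul] at hw
      have hu : IsUnit ((X i : MvPowerSeries (Fin a) k) * w) := by
        by_contra hnu
        have h3 : IsUnit (1 - X i * w) := by
          rw [isUnit_iff_constantCoeff]; simp
        have h4 := h3.map ψ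
        rw [map_sub, map_one, hw, sub_self] at h4
        haveI : Nontrivial (MvPowerSeries (Fin b) k ⧸ K) := Ideal.Quotient.nontrivial_iff.mpr
          (ne_top_of_le_ne_top (IsLocalRing.maximalIdeal.isMaximal _).ne_top (hKm.trans maximalIdeal_eq.ge))
        exact not_isUnit_zero h4
      rw [isUnit_iff_constantCoeff] at hu
      simp at hu
    obtain ⟨c, hc, -⟩ := exists_sum_X_mul y hy0
    choose d hd using fun i : Fin a => Ideal.Quotient.mk_surjective (ψ (c i))
    have hz : X l - ∑ i, h i * d i ∈ K := by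
      rw [← Ideal.Quotient.eq_zero_iff_mem, map_sub, map_sum, ← hy, hc, map_sum, sub_eq_zero]
      simp only [map_mul, hh, hd]
    refine (Submodule.mem_span_range_iff_exists_fun k).2 ⟨fun i => constantCoeff (d i), ?_⟩
    funext l'
    have := coeff_one_of_mem_sq (hK hz) l'
    simp only [map_sub, map_sum, coeff_one_mul, hhm, zero_mul, zero_add, sub_eq_zero] at this
    simp only [Finset.sum_apply, Pi.smul_apply, smul_eq_mul, linPart, LinearMap.pi_apply]
    rw [Finset.sum_congr rfl fun i _ => mul_comm (constantCoeff (d i)) _, ← this, coeff_X]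
    simp [Pi.single_apply, Finsupp.single_left_inj]
  have htop : Submodule.span k (Set.range fun i => linPart (h i)) = (⊤ : Submodule k (Fin b → k)) := by
    rw [eq_top_iff, ← (Pi.basisFun k (Fin b)).span_eq, Submodule.span_le]
    rintro _ ⟨l, rfl⟩
    rw [Pi.basisFun_apply]
    exact key l
  have h1 := finrank_range_le_card (R := k) (fun i => linPart (h i))
  rw [Set.finrank, htop, finrank_top, Module.finrank_fin_fun, Fintype.card_fin] at h1
  exact h1

end Groth.PlaneCurve.SeriesNode
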