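import Groth.Agent.PlaneCurve.SeriesNode.Jacobian
import Groth.Agent.Curves1.Node.Structure
import Groth.Agent.Curves1.Node.Completion
import Groth.Agent.Curves1.Node.NodeQuotient
import Groth.Agent.Calg1.AnalyticallyUnramifiedN1

/-!
Quotients of `k[[u, v]]` by relations of order two: the node criterion.
-/

set_option autoImplicit false
set_option linter.style.longLine false

universe u

open MvPowerSeries Groth.SGA7.PS Groth.Curves1.Node

namespace Groth.PlaneCurve.SeriesNode

variable {k : Type u} [Field k] {m : ℕ}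

theorem entry_mem {ι κ : Type} {R : Type u} [CommRing R] (J : Matrix ι κ R) (a : ι) (b : κ) :
    J a b ∈ minIdeal J 1 := by
  simpa [Matrix.det_fin_one] using det_submatrix_mem J (fun _ : Fin 1 => a) (fun _ : Fin 1 => b)

theorem minIdeal_one_le {ι κ : Type} {R : Type u} [CommRing R] (J : Matrix ι κ R) (L : Ideal R)
    (h : ∀ a b, J a b ∈ L) : minIdeal J 1 ≤ L := by
  rw [minIdeal, Ideal.span_le]
  rintro _ ⟨ρ, γ, -, -, rfl⟩
  simpa [Matrix.det_fin_one] using h (ρ 0) (γ 0)

theorem sing_one_le (g : Fin m → MvPowerSeries (Fin 2) k)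
    (hg : ∀ j, g j ∈ varIdeal (Fin 2) k ^ 2) : sing g 1 ≤ varIdeal (Fin 2) k := by
  refine sup_le (minIdeal_one_le _ _ fun j i => ?_)
    (Ideal.span_le.2 (by rintro _ ⟨j, rfl⟩; exact Ideal.pow_le_self two_ne_zero (hg j)))
  have := pderiv_mem_pow i 1 (hg j)
  rwa [pow_one] at this

/-- A node satisfies the criterion. -/
theorem sing_one_eq_of_equiv (g : Fin m → MvPowerSeries (Fin 2) k)
    (hg : ∀ j, g j ∈ varIdeal (Fin 2) k ^ 2) {a b c : k} (hD : 4 * a * c - b ^ 2 ≠ 0)
    (h : (MvPowerSeries (Fin 2) k ⧸ Ideal.span (Set.range g)) ≃ₐ[k] Quadric a b c) :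
    sing g 1 = varIdeal (Fin 2) k := by
  classical
  refine le_antisymm (sing_one_le g hg) ?_
  let q := Ideal.Quotient.mkₐ k (Ideal.span (Set.range g))
  let q₀ := Ideal.Quotient.mkₐ k (Ideal.span {quad a b c})
  choose U hU using fun i : Fin 2 => Ideal.Quotient.mk_surjective (I := Ideal.span (Set.range g)) (h.symm (q₀ (X i)))
  have hK : Ideal.span (Set.range g) ≤ varIdeal (Fin 2) k ^ 2 :=
    Ideal.span_le.2 (by rintro _ ⟨j, rfl⟩; exact hg j)
  have hqm : ∀ i, q₀ (X i) ∈ IsLocalRing.maximalIdeal (Quadric a b c) := fun i => by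
    rw [← quadric_maximalIdeal]
    fin_cases i
    · exact Ideal.subset_span (Set.mem_insert _ _)
    · exact Ideal.subset_span (Set.mem_insert_of_mem _ rfl)
  have hUm : ∀ i, U i ∈ varIdeal (Fin 2) k := by
    intro i
    rw [← maximalIdeal_eq, IsLocalRing.mem_maximalIdeal, mem_nonunits_iff]
    intro hu
    have := (hu.map (Ideal.Quotient.mk (Ideal.span (Set.range g)))).map h
    rw [hU, h.apply_symm_apply] at this
    exact (IsLocalRing.mem_maximalIdeal _).1 (hqm i) this
  haveI := Groth.Calg6.isAdicComplete_varIdeal (σ := Fin 2) (k := k)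
  let φ : MvPowerSeries (Fin 2) k →ₐ[k] MvPowerSeries (Fin 2) k :=
    Groth.Calg6.evalAdic (varIdeal (Fin 2) k) U hUm
  have hφX : ∀ i, φ (X i) = U i := Groth.Calg6.evalAdic_X _ _ _
  have hφm : ∀ i, φ (X i) ∈ varIdeal (Fin 2) k := fun i => hφX i ▸ hUm i
  have hcomp : (h.toAlgHom.comp (q.comp φ)).toRingHom = q₀.toRingHom := by
    refine Groth.ArtfunDeform.psHom_ext (fun r => ?_) (fun i => ?_) fun i => ?_
    · exact ((h.toAlgHom.comp (q.comp φ)).commutes r).trans (q₀.commutes r).symm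
    · show h (q (φ (X i))) = q₀ (X i)
      rw [hφX]; show h (Ideal.Quotient.mk _ (U i)) = _; rw [hU, h.apply_symm_apply]
    · show h (q (φ (X i))) ∈ _
      rw [hφX]; show h (Ideal.Quotient.mk _ (U i)) ∈ _; rw [hU, h.apply_symm_apply]
      exact hqm i
  have hcomp' : ∀ x, h (q (φ x)) = q₀ x := fun x => congrArg (fun t : _ →+* _ => t x) hcomp
  have hG : φ (quad a b c) ∈ Ideal.span (Set.range g) := by
    rw [← Ideal.Quotient.eq_zero_iff_mem]
    apply h.injective
    rw [map_zero]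
    exact (hcomp' _).trans (Ideal.Quotient.eq_zero_iff_mem.2 (Ideal.mem_span_singleton_self _))
  have hsurjφ : (varIdeal (Fin 2) k).map φ.toRingHom = varIdeal (Fin 2) k := by
    refine le_antisymm (map_varIdeal_le hφm) (le_of_le_sup_mul ?_)
    refine Ideal.span_le.2 ?_
    rintro _ ⟨i, rfl⟩
    obtain ⟨y, hy⟩ := Ideal.Quotient.mk_surjective (h (q (X i)))
    have hym : y ∈ varIdeal (Fin 2) k := by
      rw [← maximalIdeal_eq, IsLocalRing.mem_maximalIdeal, mem_nonunits_iff]
      intro hu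
      have h1 := hu.map (Ideal.Quotient.mk (Ideal.span {quad a b c}))
      rw [hy] at h1
      have h2 := h1.map h.symm
      rw [h.symm_apply_apply] at h2
      obtain ⟨w, hw⟩ := h2.exists_right_inv
      obtain ⟨w, rfl⟩ := Ideal.Quotient.mk_surjective w
      change Ideal.Quotient.mk _ (X i) * Ideal.Quotient.mk _ w = 1 at hw
      rw [← map_mul, ← map_one (Ideal.Quotient.mk (Ideal.span (Set.range g))), Ideal.Quotient.eq] at hw
      have h3 := (mem_varIdeal_iff _).1 (Ideal.pow_le_self two_ne_zero (hK hw))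
      simp at h3
    refine Submodule.mem_sup.2 ⟨φ y, Ideal.mem_map_of_mem φ.toRingHom hym, X i - φ y, ?_, by ring⟩
    rw [← sq]
    refine hK (Ideal.Quotient.eq.1 (h.injective ?_))
    exact hy.symm.trans (hcomp' y).symm
  -- the quadric itself
  have hquad : varIdeal (Fin 2) k ≤ sing (fun _ : Fin 1 => quad a b c) 1 := by
    rw [varIdeal, Ideal.span_le]
    have h0 : pderiv k 0 (quad a b c) = C (2 * a) * X 0 + C b * X 1 := by
      simp [quad, Derivation.leibniz, pderiv_X_of_ne, map_mul, map_ofNat]; ring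
    have h1 : pderiv k 1 (quad a b c) = C b * X 0 + C (2 * c) * X 1 := by
      simp [quad, Derivation.leibniz, pderiv_X_of_ne, map_mul, map_ofNat]; ring
    have hw : (4 * a * c - b ^ 2)⁻¹ * (4 * a * c - b ^ 2) = 1 := inv_mul_cancel₀ hD
    have hw' := congrArg (C : k →+* MvPowerSeries (Fin 2) k) hw
    simp only [map_mul, map_sub, map_pow, map_one, map_ofNat] at hw'
    have e0 : pderiv k 0 (quad a b c) ∈ sing (fun _ : Fin 1 => quad a b c) 1 :=
      Submodule.mem_sup_left (entry_mem (jac (fun _ : Fin 1 => quad a b c)) 0 0)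
    have e1 : pderiv k 1 (quad a b c) ∈ sing (fun _ : Fin 1 => quad a b c) 1 :=
      Submodule.mem_sup_left (entry_mem (jac (fun _ : Fin 1 => quad a b c)) 0 1)
    rw [h0] at e0
    rw [h1] at e1
    rintro _ ⟨i, rfl⟩
    fin_cases i
    · have := sub_mem (Ideal.mul_mem_left _ (C (4 * a * c - b ^ 2)⁻¹ * C (2 * c)) e0)
        (Ideal.mul_mem_left _ (C (4 * a * c - b ^ 2)⁻¹ * C b) e1)
      show (X 0 : MvPowerSeries (Fin 2) k) ∈ sing (fun _ : Fin 1 => quad a b c) 1
      convert this using 1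
      simp only [map_mul, map_ofNat]
      linear_combination (-(X 0 : MvPowerSeries (Fin 2) k)) * hw'
    · have := sub_mem (Ideal.mul_mem_left _ (C (4 * a * c - b ^ 2)⁻¹ * C (2 * a)) e1)
        (Ideal.mul_mem_left _ (C (4 * a * c - b ^ 2)⁻¹ * C b) e0)
      show (X 1 : MvPowerSeries (Fin 2) k) ∈ sing (fun _ : Fin 1 => quad a b c) 1
      convert this using 1
      simp only [map_mul, map_ofNat]
      linear_combination (-(X 1 : MvPowerSeries (Fin 2) k)) * hw'
  have hsurj : Function.Surjective φ := by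
    haveI : IsHausdorff ((varIdeal (Fin 2) k).map φ.toRingHom) (MvPowerSeries (Fin 2) k) := by
      rw [hsurjφ]; infer_instance
    refine Groth.Calg6.surjective_of_map_varIdeal φ.toRingHom fun x => ⟨constantCoeff x, ?_⟩
    rw [hsurjφ, mem_varIdeal_iff, map_sub, show φ.toRingHom (C (constantCoeff x)) = C (constantCoeff x) from
      φ.commutes _, constantCoeff_C, sub_self]
  let Φ := AlgEquiv.ofBijective φ ⟨injective_of_surjective_endo φ.toRingHom hsurj, hsurj⟩
  have h1 : varIdeal (Fin 2) k ≤ sing (fun j : Fin 1 => Φ ((fun _ : Fin 1 => quad a b c) j)) 1 := by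
    rw [sing_equiv]
    refine le_trans hsurjφ.ge (Ideal.map_mono hquad)
  refine h1.trans (sup_le (minIdeal_one_le _ _ fun _ i => ?_) (Ideal.span_le.2 ?_))
  · obtain ⟨d, hd⟩ := Ideal.mem_span_range_iff_exists_fun.1 hG
    show pderiv k i (φ (quad a b c)) ∈ _
    rw [← hd, map_sum]
    refine Ideal.sum_mem _ fun j _ => ?_
    rw [Derivation.leibniz, smul_eq_mul, smul_eq_mul]
    exact add_mem (Ideal.mul_mem_left _ _ (Submodule.mem_sup_left (entry_mem (jac g) j i)))
      (Ideal.mul_mem_right _ _ (Submodule.mem_sup_right (Ideal.subset_span ⟨j, rfl⟩)))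
  · rintro _ ⟨_, rfl⟩
    exact Submodule.mem_sup_right hG

/-- The criterion gives a relation with nondegenerate quadratic part. -/
theorem exists_nondegenerate (g : Fin m → MvPowerSeries (Fin 2) k)
    (hg : ∀ j, g j ∈ varIdeal (Fin 2) k ^ 2) (hL : sing g 1 = varIdeal (Fin 2) k) :
    ∃ G ∈ Ideal.span (Set.range g), 4 * coeff (ee 2 0) G * coeff (ee 0 2) G - coeff (ee 1 1) G ^ 2 ≠ 0 := by
  classical
  by_contra! hall
  let A := fun j => coeff (ee 2 0) (g j)
  let B := fun j => coeff (ee 1 1) (g j)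
  let Cc := fun j => coeff (ee 0 2) (g j)
  have hd : ∀ j, 4 * A j * Cc j - B j ^ 2 = 0 := fun j => hall _ (Ideal.subset_span ⟨j, rfl⟩)
  have hd2 : ∀ i j, 4 * A i * Cc j + 4 * A j * Cc i - 2 * B i * B j = 0 := fun i j => by
    have := hall (g i + g j) (add_mem (Ideal.subset_span ⟨i, rfl⟩) (Ideal.subset_span ⟨j, rfl⟩))
    simp only [map_add] at this
    linear_combination this - hd i - hd j
  -- linear parts of the partial derivatives
  let l0 : MvPowerSeries (Fin 2) k → k := fun x => coeff (Finsupp.single 0 1) x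
  let l1 : MvPowerSeries (Fin 2) k → k := fun x => coeff (Finsupp.single 1 1) x
  have hee : ∀ i j : ℕ, ee i j = Finsupp.single (0 : Fin 2) i + Finsupp.single 1 j := fun i j => rfl
  have hl : ∀ j, l0 (pderiv k 0 (g j)) = 2 * A j ∧ l1 (pderiv k 0 (g j)) = B j ∧
      l0 (pderiv k 1 (g j)) = B j ∧ l1 (pderiv k 1 (g j)) = 2 * Cc j := by
    intro j
    refine ⟨?_, ?_, ?_, ?_⟩ <;> simp only [l0, l1, coeff_pderiv, A, B, Cc, hee, ← Finsupp.single_add,
      Finsupp.single_zero, add_zero, zero_add, Finsupp.single_apply]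
    · norm_num [mul_comm]
    · rw [add_comm (Finsupp.single (1 : Fin 2) 1)]; norm_num
    · norm_num
    · norm_num [mul_comm]
  have hpair : ∀ i j (a b : Fin 2), l0 (pderiv k a (g i)) * l1 (pderiv k b (g j)) -
      l1 (pderiv k a (g i)) * l0 (pderiv k b (g j)) = 0 := by
    intro i j a b
    have h1 := hd i
    have h2 := hd j
    have h3 := hd2 i j
    fin_cases a <;> fin_cases b <;> simp only [hl i, hl j, Fin.zero_eta, Fin.mk_one] <;>
      refine pow_eq_zero_iff (two_ne_zero) |>.1 ?_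
    · linear_combination (-4 * A i ^ 2) * h2 + (-4 * A j ^ 2) * h1 + (4 * A i * A j) * h3
    · linear_combination (-4 * A i * Cc i) * h2 + (-B j ^ 2) * h1 + (4 * A i * Cc j) * h3
    · linear_combination (-4 * A i * Cc i) * h2 + (-B j ^ 2) * h1 + (4 * Cc i * A j) * h3
    · linear_combination (-4 * Cc i ^ 2) * h2 + (-4 * Cc j ^ 2) * h1 + (4 * Cc i * Cc j) * h3
  obtain ⟨p, q, hpq, hv⟩ : ∃ p q : k, (p ≠ 0 ∨ q ≠ 0) ∧
      ∀ (i : Fin m) (a : Fin 2), q * l0 (pderiv k a (g i)) - p * l1 (pderiv k a (g i)) = 0 := by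
    by_cases h : ∃ (i : Fin m) (a : Fin 2), l0 (pderiv k a (g i)) ≠ 0 ∨ l1 (pderiv k a (g i)) ≠ 0
    · obtain ⟨i, a, h⟩ := h
      exact ⟨_, _, h, fun j b => by linear_combination (-1 : k) * hpair i j a b⟩
    · push Not at h
      exact ⟨1, 0, Or.inl one_ne_zero, fun i a => by rw [(h i a).1, (h i a).2]; ring⟩
  let N : Ideal (MvPowerSeries (Fin 2) k) :=
    { carrier := {x | x ∈ varIdeal (Fin 2) k ∧ q * l0 x - p * l1 x = 0}
      zero_mem' := ⟨zero_mem _, by simp [l0, l1]⟩
      add_mem' := fun {x y} hx hy => ⟨add_mem hx.1 hy.1, by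
        simp only [l0, l1, map_add] at *
        linear_combination hx.2 + hy.2⟩
      smul_mem' := fun c x hx => ⟨Ideal.mul_mem_left _ _ hx.1, by
        simp only [l0, l1, smul_eq_mul, coeff_one_mul, (mem_varIdeal_iff x).1 hx.1, mul_zero, add_zero] at *
        linear_combination constantCoeff c * hx.2⟩ }
  have hN : sing g 1 ≤ N := by
    refine sup_le (minIdeal_one_le _ _ fun j i => ⟨?_, hv j i⟩) (Ideal.span_le.2 ?_)
    · have := pderiv_mem_pow i 1 (hg j)
      rwa [pow_one] at this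
    · rintro _ ⟨j, rfl⟩
      refine ⟨Ideal.pow_le_self two_ne_zero (hg j), ?_⟩
      simp [l0, l1, coeff_one_of_mem_sq (hg j)]
  rw [hL] at hN
  have h0 := (hN (X_mem (0 : Fin 2))).2
  have h1 := (hN (X_mem (1 : Fin 2))).2
  simp [l0, l1, coeff_X, Finsupp.single_left_inj] at h0 h1
  rcases hpq with h | h
  · exact h h1
  · exact h h0

/-- The criterion with a nonzerodivisor gives a node. -/
theorem nonempty_equiv_of_sing_one (g : Fin m → MvPowerSeries (Fin 2) k)
    (hg : ∀ j, g j ∈ varIdeal (Fin 2) k ^ 2) (hL : sing g 1 = varIdeal (Fin 2) k)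
    (ht : ∃ t : MvPowerSeries (Fin 2) k, t ∈ varIdeal (Fin 2) k ∧
      Ideal.Quotient.mk (Ideal.span (Set.range g)) t ∈ nonZeroDivisors _) :
    ∃ a b c : k, 4 * a * c - b ^ 2 ≠ 0 ∧
      Nonempty ((MvPowerSeries (Fin 2) k ⧸ Ideal.span (Set.range g)) ≃ₐ[k] Quadric a b c) := by
  classical
  obtain ⟨G, hG, hD⟩ := exists_nondegenerate g hg hL
  set K := Ideal.span (Set.range g) with hKdef
  have hK : K ≤ varIdeal (Fin 2) k ^ 2 := Ideal.span_le.2 (by rintro _ ⟨j, rfl⟩; exact hg j)
  obtain ⟨t, htm, htr⟩ := ht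
  refine ⟨_, _, _, hD, ?_⟩
  let P := MvPowerSeries (Fin 2) k
  have hKm : K ≤ IsLocalRing.maximalIdeal P := by
    rw [maximalIdeal_eq]; exact hK.trans (Ideal.pow_le_self two_ne_zero)
  haveI : Nontrivial (P ⧸ K) := Ideal.Quotient.nontrivial_iff.mpr
    (ne_top_of_le_ne_top (IsLocalRing.maximalIdeal.isMaximal _).ne_top hKm)
  haveI : IsLocalRing (P ⧸ K) := .of_surjective' (Ideal.Quotient.mk K) Ideal.Quotient.mk_surjective
  haveI := IsLocalHom.of_surjective (Ideal.Quotient.mk K) Ideal.Quotient.mk_surjective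
  haveI : IsAdicComplete (IsLocalRing.maximalIdeal P) P := by
    rw [maximalIdeal_eq]; exact Groth.Calg6.isAdicComplete_varIdeal
  haveI := Groth.Calg1.isAdicComplete_quotient (C := P) K
  have hmax : IsLocalRing.maximalIdeal (P ⧸ K) = (varIdeal (Fin 2) k).map (Ideal.Quotient.mk K) := by
    rw [← maximalIdeal_eq]
    exact (map_maximalIdeal_of_surjective (φ := Ideal.Quotient.mk K) Ideal.Quotient.mk_surjective).symm
  have hvar : varIdeal (Fin 2) k = Ideal.span {(X 0 : P), X 1} := by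
    rw [varIdeal]; congr 1; ext z; simp [Fin.exists_fin_two, eq_comm]
  refine nonempty_equiv_quadric (R := P ⧸ K) ?_ ?_ (t := Ideal.Quotient.mk K t) ?_ htr
    (x := Ideal.Quotient.mk K (X 0)) (y := Ideal.Quotient.mk K (X 1)) ?_ hD ?_
  · intro z
    obtain ⟨z, rfl⟩ := IsLocalRing.residue_surjective z
    obtain ⟨w, rfl⟩ := Ideal.Quotient.mk_surjective z
    refine ⟨constantCoeff w, ?_⟩
    rw [RingHom.comp_apply, ← sub_eq_zero, ← map_sub, IsLocalRing.residue_eq_zero_iff, hmax]
    refine Ideal.mem_map_of_mem _ (x := C (constantCoeff w) - w) ?_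
    rw [mem_varIdeal_iff]; simp
  · intro z hz hle
    rw [hmax, Ideal.mem_map_iff_of_surjective _ Ideal.Quotient.mk_surjective] at hz
    obtain ⟨z, hz, rfl⟩ := hz
    have key : ∀ i : Fin 2, ∃ c : k, ∀ l : Fin 2, (if l = i then (1 : k) else 0) = c * coeff (Finsupp.single l 1) z := by
      intro i
      have h1 : Ideal.Quotient.mk K (X i) ∈ Ideal.span {Ideal.Quotient.mk K z} := by
        refine hle ?_
        rw [hmax]; exact Ideal.mem_map_of_mem _ (X_mem i)
      obtain ⟨w, hw⟩ := Ideal.mem_span_singleton'.1 h1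
      obtain ⟨w, rfl⟩ := Ideal.Quotient.mk_surjective w
      rw [← map_mul, Ideal.Quotient.eq] at hw
      refine ⟨constantCoeff w, fun l => ?_⟩
      have h2 := coeff_one_of_mem_sq (hK hw) l
      rw [map_sub, coeff_one_mul, (mem_varIdeal_iff z).1 hz, mul_zero, add_zero, coeff_X, sub_eq_zero] at h2
      rw [h2]
      simp [Finsupp.single_left_inj]
    obtain ⟨c0, hc0⟩ := key 0
    obtain ⟨c1, hc1⟩ := key 1
    have e00 := hc0 0
    have e01 := hc0 1
    have e11 := hc1 1
    simp at e00 e01 e11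
    rcases e01 with h | h
    · simp [h] at e00
    · simp [h] at e11
  · rw [hmax]; exact Ideal.mem_map_of_mem _ htm
  · rw [hmax, hvar, Ideal.map_span, Set.image_pair]
  · have h3 : G - quad (coeff (ee 2 0) G) (coeff (ee 1 1) G) (coeff (ee 0 2) G) ∈ varIdeal (Fin 2) k ^ 3 := by
      refine mem_varIdeal_pow 3 _ fun d hd => ?_
      have hG0 : constantCoeff G = 0 := (mem_varIdeal_iff G).1 (Ideal.pow_le_self two_ne_zero (hK hG))
      have hG1 := coeff_one_of_mem_sq (hK hG)
      rw [eq_ee d] at hd ⊢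
      have hdeg : d 0 + d 1 < 3 := by
        simpa [ee, Finsupp.degree_single] using hd
      have h0' : d 0 ≤ 2 := by omega
      have h1' : d 1 ≤ 2 := by omega
      rw [map_sub, quad_eq]
      simp only [map_add, coeff_monomial, ee_inj]
      interval_cases hh0 : d 0 <;> interval_cases hh1 : d 1 <;> first | omega | skip
      all_goals simp [hG0, show ee 0 0 = (0 : Fin 2 →₀ ℕ) by simp [ee],
        show ee 1 0 = Finsupp.single (0 : Fin 2) 1 by simp [ee],
        show ee 0 1 = Finsupp.single (1 : Fin 2) 1 by simp [ee], hG1]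
    have h4 : Ideal.Quotient.mk K (quad (coeff (ee 2 0) G) (coeff (ee 1 1) G) (coeff (ee 0 2) G)) ∈
        IsLocalRing.maximalIdeal (P ⧸ K) ^ 3 := by
      rw [hmax, ← Ideal.map_pow]
      have h5 := Ideal.mem_map_of_mem (Ideal.Quotient.mk K) h3
      rw [map_sub, Ideal.Quotient.eq_zero_iff_mem.2 hG, zero_sub] at h5
      simpa using neg_mem h5
    exact h4

end Groth.PlaneCurve.SeriesNode
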